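import Cfsg.Agent.H942.DF.Perm
import Cfsg.Agent.H597.E8Form

/-!
# S5917, type D: the derived algebra `D = Mp` of the fixed algebra of `E` (helper942, row F2 of h20D)

* `EF.expand`, `EF.Mp_of`, `EF.Mp_iff` : coordinates of `D`;
* `EF.zx_mem` : an element fixing `t` maps `x` to `x + D`;
* `EF.scalar_TZ` : an element of the fixed algebra acting as a scalar on a module of type `X` lies in `t`;
* `EF.ker_X`, `EF.ker_XX` : the kernels on the modules of type `X`, and on two types.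
-/

set_option autoImplicit false
set_option maxRecDepth 100000

namespace Cfsg.Agent.H942.DF

open Cfsg Cfsg.Lie Cfsg.Lie.ChevalleyDatum
open Cfsg.Agent.ChevalleyStructure Cfsg.Agent.ChevalleyStructure.LieAbs Cfsg.Agent.ChevalleyStructure.LieAut
open Cfsg.Agent.ChevalleyStructure.Columns (car cor)
open Cfsg.Agent.H939.L64 Cfsg.Agent.H413.L16 Cfsg.Agent.H201.L34 Cfsg.Agent.H251.L34
open Cfsg.Agent.H876.L64
open Cfsg.Agent.H413.L64 (charKK)
open Cfsg.Agent.H597.E8Form (J AZ inv_gen J_transpose)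

variable {t1 t2 : ↥(chevE8.group KK)} {ζ : KK}

/-! ### coordinates -/

theorem drn (b : Fin 24) : dr b < chevE8.nroots := by rw [nr]; exact dr_lt b

/-- the elements of the fixed algebra -/
theorem EF.expand (h : EF t1 t2 ζ) {d : LK} (hd : VV t1 t2 ζ 0 0 d) :
    d = hv (fun i => d (Sum.inl i)) + ∑ b : Fin 24, d (Sum.inr ⟨dr b, drn b⟩) • er (dr b) := by
  funext j
  rw [Pi.add_apply, Finset.sum_apply]
  rcases j with i | s
  · rw [hv_inl, Finset.sum_eq_zero, add_zero]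
    intro b _
    rw [Pi.smul_apply, er_inl, smul_zero]
  · rw [hv_inr, zero_add]
    by_cases h0 : d (Sum.inr s) = 0
    · rw [h0, Finset.sum_eq_zero]
      intro b _
      rw [Pi.smul_apply, er_inr]
      by_cases e : dr b = s
      · have : (⟨dr b, drn b⟩ : Fin chevE8.nroots) = s := Fin.ext e
        rw [this, h0, zero_smul]
      · rw [if_neg e, smul_zero]
    · obtain ⟨e1, e3⟩ := h.root hd h0
      obtain ⟨b, hb⟩ := zero_cases (slt s) e1 e3
      rw [Finset.sum_eq_single b]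
      · rw [Pi.smul_apply, er_inr, if_pos hb.symm, smul_eq_mul, mul_one]
        congr 2
        exact Fin.ext hb
      · intro b' _ hb'
        rw [Pi.smul_apply, er_inr, if_neg (fun e => hb' (dr_inj (e.trans hb))), smul_zero]
      · intro h; exact absurd (Finset.mem_univ _) h

theorem EF.er_mem (h : EF t1 t2 ζ) (b : Fin 24) : er (dr b) ∈ Mp t1 t2 ζ := by
  obtain ⟨i, hi⟩ := odd_car ⟨dr b, drn b⟩
  refine Submodule.subset_span ⟨hv (Pi.single (M := fun _ => KK) i 1), er (dr b), h.hvM _, h.drM b, ?_⟩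
  rw [br_hv _ (dr_lt b), Finset.sum_eq_single i]
  · rw [Pi.single_eq_same, one_mul, cast_odd hi, one_smul]
  · intro b _ hb
    rw [Pi.single_eq_of_ne hb, zero_mul]
  · intro h; exact absurd (Finset.mem_univ _) h

theorem cor4 : (∀ i : Fin 8, cor chevE8 141 i = if i = 1 then 1 else 0) ∧ (∀ i : Fin 8, cor chevE8 135 i = if i = 2 then 1 else 0) ∧
    (∀ i : Fin 8, cor chevE8 130 i = if i = 3 then 1 else 0) ∧ ∀ i : Fin 8, cor chevE8 126 i = if i = 4 then 1 else 0 := by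
  decide +kernel

theorem hv_four (c : Fin 8 → KK) (h0 : c 0 = 0) (h5 : c 5 = 0) (h6 : c 6 = 0) (h7 : c 7 = 0) :
    hv c = c 1 • hr 141 + c 2 • hr 135 + c 3 • hr 130 + c 4 • hr 126 := by
  obtain ⟨a1, a2, a3, a4⟩ := cor4
  funext j
  rcases j with i | s
  · have key : ∀ i : Fin 8, c i = c 1 * ((cor chevE8 141 i : ℤ) : KK) + c 2 * ((cor chevE8 135 i : ℤ) : KK) +
        c 3 * ((cor chevE8 130 i : ℤ) : KK) + c 4 * ((cor chevE8 126 i : ℤ) : KK) := by
      intro i
      rw [a1, a2, a3, a4]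
      fin_cases i <;> simp [h0, h5, h6, h7]
    exact key i
  · show (0 : KK) = c 1 * 0 + c 2 * 0 + c 3 * 0 + c 4 * 0
    ring

/-- **the derived algebra in coordinates** -/
theorem EF.Mp_of (h : EF t1 t2 ζ) {d : LK} (hd : VV t1 t2 ζ 0 0 d) {c : Fin 8 → KK} (hc : c = fun i => d (Sum.inl i))
    (h0 : c 0 = 0) (h5 : c 5 = 0) (h6 : c 6 = 0) (h7 : c 7 = 0) : d ∈ Mp t1 t2 ζ := by
  rw [h.expand hd]
  have e : hv (fun i => d (Sum.inl i)) = hv c := by rw [hc]
  rw [e, hv_four c h0 h5 h6 h7]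
  obtain ⟨d1, d2, d3, d4⟩ := dr_tab
  have e1 := h.hr_mem 18
  have e2 := h.hr_mem 15
  have e3 := h.hr_mem 13
  have e4 := h.hr_mem 12
  rw [d1] at e1
  rw [d2] at e2
  rw [d3] at e3
  rw [d4] at e4
  refine add_mem (add_mem (add_mem (add_mem ?_ ?_) ?_) ?_) (sum_mem fun b _ => Submodule.smul_mem _ _ (h.er_mem b))
  · exact Submodule.smul_mem _ _ e1
  · exact Submodule.smul_mem _ _ e2
  · exact Submodule.smul_mem _ _ e3
  · exact Submodule.smul_mem _ _ e4

theorem EF.Mp_VV (_ : EF t1 t2 ζ) {d : LK} (hd : d ∈ Mp t1 t2 ζ) : VV t1 t2 ζ 0 0 d := by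
  unfold Mp at hd
  rw [VV00]
  induction hd using Submodule.span_induction with
  | mem u hu =>
    obtain ⟨a, b, ha, hb, rfl⟩ := hu
    rw [VV00] at ha hb
    rw [aK_brK, aK_brK, ha.1, hb.1, ha.2, hb.2]
    exact ⟨rfl, rfl⟩
  | zero => exact ⟨aK_zero _, aK_zero _⟩
  | add x y _ _ hx hy => rw [aK_add, aK_add, hx.1, hx.2, hy.1, hy.2]; exact ⟨rfl, rfl⟩
  | smul c x _ hx => rw [aK_smul, aK_smul, hx.1, hx.2]; exact ⟨rfl, rfl⟩

/-! ### the form -/

/-- the invariant form -/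
noncomputable def bJ (v w : LK) : KK := v ⬝ᵥ ((J KK).mulVec w)

theorem J_inv (g : ↥(chevE8.group KK)) :
    (((g : GL chevE8.Idx KK) : Matrix chevE8.Idx chevE8.Idx KK)).transpose * J KK *
      ((g : GL chevE8.Idx KK) : Matrix chevE8.Idx chevE8.Idx KK) = J KK := by
  obtain ⟨g, hg⟩ := g
  show ((g : Matrix chevE8.Idx chevE8.Idx KK)).transpose * J KK * (g : Matrix chevE8.Idx chevE8.Idx KK) = J KK
  unfold ChevalleyDatum.group at hg
  induction hg using Subgroup.closure_induction with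
  | mem x hx =>
    obtain ⟨r, t, h⟩ := hx
    rw [h]
    exact inv_gen r t
  | one => simp
  | mul x y _ _ hx hy =>
    rw [Units.val_mul, Matrix.transpose_mul]
    calc ((y : Matrix chevE8.Idx chevE8.Idx KK)).transpose * ((x : Matrix chevE8.Idx chevE8.Idx KK)).transpose * J KK *
          ((x : Matrix chevE8.Idx chevE8.Idx KK) * (y : Matrix chevE8.Idx chevE8.Idx KK))
        = ((y : Matrix chevE8.Idx chevE8.Idx KK)).transpose * (((x : Matrix chevE8.Idx chevE8.Idx KK)).transpose * J KK *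
          (x : Matrix chevE8.Idx chevE8.Idx KK)) * (y : Matrix chevE8.Idx chevE8.Idx KK) := by
          simp only [Matrix.mul_assoc]
      _ = _ := by rw [hx, hy]
  | inv x _ hx =>
    have h1 : (x : Matrix chevE8.Idx chevE8.Idx KK) * ((x⁻¹ : GL chevE8.Idx KK) : Matrix chevE8.Idx chevE8.Idx KK) = 1 := by
      rw [← Units.val_mul, mul_inv_cancel, Units.val_one]
    calc (((x⁻¹ : GL chevE8.Idx KK) : Matrix chevE8.Idx chevE8.Idx KK)).transpose * J KK *
          ((x⁻¹ : GL chevE8.Idx KK) : Matrix chevE8.Idx chevE8.Idx KK)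
        = (((x⁻¹ : GL chevE8.Idx KK) : Matrix chevE8.Idx chevE8.Idx KK)).transpose *
          (((x : Matrix chevE8.Idx chevE8.Idx KK)).transpose * J KK * (x : Matrix chevE8.Idx chevE8.Idx KK)) *
          ((x⁻¹ : GL chevE8.Idx KK) : Matrix chevE8.Idx chevE8.Idx KK) := by rw [hx]
      _ = ((x : Matrix chevE8.Idx chevE8.Idx KK) *
          ((x⁻¹ : GL chevE8.Idx KK) : Matrix chevE8.Idx chevE8.Idx KK)).transpose * J KK *
          ((x : Matrix chevE8.Idx chevE8.Idx KK) * ((x⁻¹ : GL chevE8.Idx KK) : Matrix chevE8.Idx chevE8.Idx KK)) := by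
          rw [Matrix.transpose_mul]; simp only [Matrix.mul_assoc]
      _ = J KK := by rw [h1, Matrix.transpose_one, Matrix.one_mul, Matrix.mul_one]

theorem bJ_inv (g : ↥(chevE8.group KK)) (v w : LK) : bJ (aK g v) (aK g w) = bJ v w := by
  unfold bJ aK
  rw [Matrix.dotProduct_mulVec, ← Matrix.vecMul_transpose, Matrix.vecMul_vecMul, ← Matrix.dotProduct_mulVec,
    Matrix.mulVec_mulVec, J_inv]

theorem bJ_add_right (v w w' : LK) : bJ v (w + w') = bJ v w + bJ v w' := by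
  unfold bJ
  rw [Matrix.mulVec_add, dotProduct_add]

theorem bJ_hv (c : Fin chevE8.rank → KK) (w : LK) :
    bJ (hv c) w = ∑ i, c i * ∑ j, J KK (Sum.inl i) (Sum.inl j) * w (Sum.inl j) := by
  unfold bJ
  rw [dotProduct, Fintype.sum_sum_type]
  have h2 : ∑ x : Fin chevE8.nroots, hv c (Sum.inr x) * (J KK).mulVec w (Sum.inr x) = 0 :=
    Finset.sum_eq_zero fun x _ => by rw [hv_inr, zero_mul]
  rw [h2, add_zero]
  refine Finset.sum_congr rfl fun i _ => ?_
  rw [hv_inl, Matrix.mulVec, dotProduct, Fintype.sum_sum_type]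
  have h3 : ∑ x : Fin chevE8.nroots, J KK (Sum.inl i) (Sum.inr x) * w (Sum.inr x) = 0 :=
    Finset.sum_eq_zero fun x _ => by
      show (0 : KK) * _ = 0
      rw [zero_mul]
  rw [h3, add_zero]

/-- rows of the form -/
def HA : Fin 4 → Fin 8 → ℤ := ![![0, 0, 0, 0, 0, 0, -1, 2], ![0, 0, 0, 0, 0, -1, 2, -1], ![-1, 0, 2, -2, 2, -1, 0, 0],
  ![0, 2, 0, -2, 2, -1, 0, 0]]

theorem HA_tab : ∀ m j, ∑ i : Fin 8, HB m i * AZ i j = HA m j := by decide +kernel

theorem bJ_hx (m : Fin 4) (w : LK) : bJ (hx (Pi.single m 1)) w = ∑ j : Fin 8, ((HA m j : ℤ) : KK) * w (Sum.inl j) := by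
  have e : hx (Pi.single m 1) = hv fun i : Fin chevE8.rank => ((HB m i : ℤ) : KK) := by
    unfold hx
    congr 1
    funext i
    rw [Finset.sum_eq_single m]
    · rw [Pi.single_eq_same, one_mul]
    · intro b _ hb
      rw [Pi.single_eq_of_ne hb, zero_mul]
    · intro h; exact absurd (Finset.mem_univ _) h
  rw [e, bJ_hv]
  show ∑ i : Fin 8, ((HB m i : ℤ) : KK) * ∑ j : Fin 8, ((AZ i j : ℤ) : KK) * w (Sum.inl j) = _
  simp_rw [Finset.mul_sum]
  rw [Finset.sum_comm]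
  refine Finset.sum_congr rfl fun j _ => ?_
  rw [← HA_tab m j]
  push_cast
  rw [Finset.sum_mul]
  refine Finset.sum_congr rfl fun i _ => ?_
  ring

/-- an element of the fixed algebra orthogonal to `t` lies in the derived algebra -/
theorem EF.Mp_of_orth (h : EF t1 t2 ζ) {d : LK} (hd : VV t1 t2 ζ 0 0 d) (ho : ∀ m, bJ (hx (Pi.single m 1)) d = 0) :
    d ∈ Mp t1 t2 ζ := by
  have two : (2 : KK) = 0 := by
    have := charKK
    exact CharTwo.two_eq_zero
  have q0 := ho 0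
  have q1 := ho 1
  have q2 := ho 2
  have q3 := ho 3
  rw [bJ_hx, Fin.sum_univ_eight] at q0 q1 q2 q3
  simp [HA, two] at q0 q1 q2 q3
  have q5 : d (Sum.inl (5 : Fin 8)) = 0 := q3
  have q7 : d (Sum.inl (7 : Fin 8)) = 0 := by
    rw [q5] at q1
    simpa using q1
  have q00 : d (Sum.inl (0 : Fin 8)) = 0 := by
    rw [q5] at q2
    simpa using q2
  exact h.Mp_of hd rfl q00 q5 q0 q7

/-- **an element trivial on `t` is trivial modulo `D`** -/
theorem EF.zx_mem (h : EF t1 t2 ζ) {z : ↥(chevE8.group KK)} (hm : ∀ v, VV t1 t2 ζ 0 0 v → VV t1 t2 ζ 0 0 (aK z v))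
    (ht : ∀ x, aK z (hx x) = hx x) {x : LK} (hx' : VV t1 t2 ζ 0 0 x) : aK z x + x ∈ Mp t1 t2 ζ := by
  refine h.Mp_of_orth ?_ fun m => ?_
  · have h1 := hm x hx'
    rw [VV00] at h1 hx' ⊢
    rw [aK_add, aK_add, h1.1, h1.2, hx'.1, hx'.2]
    exact ⟨rfl, rfl⟩
  · have e := bJ_inv z (hx (Pi.single m 1)) x
    rw [ht] at e
    have := charKK
    rw [bJ_add_right, e, CharTwo.add_self_eq_zero]

/-! ### the kernels -/

theorem rtb_tab : (∀ X b, ∃ k, rtb X b k < 8) ∧ ∀ X b k, rtb X b k < 8 → (rtb X b k ≠ k ∧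
    ∀ b', rtb X b' k = rtb X b k → b' = b) := by decide +kernel

theorem car_rtb : ∀ X b k, rtb X b k < 8 → ∀ i : Fin 8, (car chevE8 i (MTL.getD (64 * (X : Fin 3) + rtb X b k) 240) -
    (car chevE8 i (dr b) + car chevE8 i (mt X 0 k))) % 2 = 0 := by decide +kernel

theorem mt_eq (X : Fin 3) (k : Fin 8) : mt X 0 k = MTL.getD (64 * X + k) 240 := by
  show MTL.getD (64 * (X : ℕ) + 8 * 0 + k) 240 = _
  rw [mul_zero, add_zero]

theorem br_sum_b (d : Fin 24 → KK) (v : LK) : brK (∑ b, d b • er (dr b)) v = ∑ b, d b • brK (er (dr b)) v := by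
  show brM (∑ b, d b • er (dr b)) v = _
  rw [map_sum, LinearMap.sum_apply]
  refine Finset.sum_congr rfl fun b _ => ?_
  rw [map_smul, LinearMap.smul_apply]
  rfl

/-- **an element of the fixed algebra acting as a scalar on a module of type `X` lies in `t`** -/
theorem EF.scalar_TZ (h : EF t1 t2 ζ) {d : LK} (hd : VV t1 t2 ζ 0 0 d) {X : Fin 3} {s : KK}
    (hs : ∀ k, brK d (er (mt X 0 k)) = s • er (mt X 0 k)) : TZ t1 t2 ζ d := by
  have hexp := h.expand hd
  set c : Fin chevE8.rank → KK := fun i => d (Sum.inl i) with hc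
  set y : Fin 24 → KK := fun b => d (Sum.inr ⟨dr b, drn b⟩) with hy
  have key : ∀ k, brK (hv c) (er (mt X 0 k)) + ∑ b, y b • brK (er (dr b)) (er (mt X 0 k)) = s • er (mt X 0 k) := by
    intro k
    rw [← hs k, ← br_sum_b]
    conv_rhs => rw [hexp]
    exact (congrFun (congrArg DFunLike.coe (map_add brM (hv c) (∑ b, y b • er (dr b)))) (er (mt X 0 k))).symm
  have hy0 : ∀ b, y b = 0 := by
    intro b
    obtain ⟨k, hk⟩ := rtb_tab.1 X b
    obtain ⟨hne, huniq⟩ := rtb_tab.2 X b k hk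
    have hm : mt X 0 ⟨rtb X b k, hk⟩ < chevE8.nroots := by rw [nr]; exact mt_lt _ _ _
    have e := congrFun (key k) (Sum.inr ⟨mt X 0 ⟨rtb X b k, hk⟩, hm⟩)
    have hne' : mt X 0 k ≠ mt X 0 ⟨rtb X b k, hk⟩ := by
      intro e2
      obtain ⟨-, -, e3⟩ := mt_inj _ _ _ _ _ _ e2
      exact hne (congrArg Fin.val e3).symm
    rw [Pi.add_apply, br_hv _ (mt_lt X 0 k), Pi.smul_apply, er_inr, if_neg hne', smul_zero, zero_add, Pi.smul_apply, er_inr,
      if_neg hne', smul_zero, Finset.sum_apply, Finset.sum_eq_single b] at e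
    · rw [Pi.smul_apply, br_dr_mt, dif_pos hk, er_inr, if_pos rfl, smul_eq_mul, mul_one] at e
      exact e
    · intro b' _ hb'
      rw [Pi.smul_apply, br_dr_mt]
      split_ifs with h1
      · rw [er_inr, if_neg, smul_zero]
        intro e2
        obtain ⟨-, -, e3⟩ := mt_inj _ _ _ _ _ _ e2
        exact hb' (huniq b' (congrArg Fin.val e3))
      · show y b' • (0 : KK) = 0
        rw [smul_zero]
    · intro h; exact absurd (Finset.mem_univ _) h
  have hdc : d = hv c := by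
    rw [hexp, Finset.sum_eq_zero, add_zero]
    intro b _
    have := hy0 b
    rw [hy] at this
    dsimp only at this
    rw [this, zero_smul]
  have hk : ∀ k, ∑ i, c i * ((car chevE8 i (mt X 0 k) : ℤ) : KK) = s := by
    intro k
    have e := hs k
    rw [hdc, br_hv _ (mt_lt X 0 k)] at e
    have e2 := congrFun e (Sum.inr ⟨mt X 0 k, by rw [nr]; exact mt_lt _ _ _⟩)
    rw [Pi.smul_apply, Pi.smul_apply, er_inr, if_pos rfl, smul_eq_mul, smul_eq_mul, mul_one, mul_one] at e2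
    exact e2
  have hb : ∀ b, ∑ i, c i * ((car chevE8 i (dr b) : ℤ) : KK) = 0 := by
    intro b
    obtain ⟨k, hkk⟩ := rtb_tab.1 X b
    have e1 := hk k
    have e2 := hk ⟨rtb X b k, hkk⟩
    have e3 : ∀ i : Fin chevE8.rank, ((car chevE8 i (mt X 0 ⟨rtb X b k, hkk⟩) : ℤ) : KK) =
        ((car chevE8 i (dr b) : ℤ) : KK) + ((car chevE8 i (mt X 0 k) : ℤ) : KK) := by
      intro i
      rw [← Int.cast_add, mt_eq]
      exact cast_congr (car_rtb X b k hkk i)
    simp_rw [e3, mul_add] at e2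
    rw [Finset.sum_add_distrib, e1] at e2
    exact add_eq_right.1 e2
  refine ⟨hd, fun m hm => ?_⟩
  rw [hdc]
  funext j
  rcases j with i | s'
  · unfold hv
    rw [h_br]
    rfl
  · rw [br_hv_inr]
    by_cases h0 : m (Sum.inr s') = 0
    · rw [h0, mul_zero]; rfl
    · obtain ⟨e1, e3⟩ := h.root hm h0
      obtain ⟨b, hb'⟩ := zero_cases (slt s') e1 e3
      rw [hb', hb b, zero_mul]; rfl

/-- an element of `D` acting as zero on the module of type `X` -/
theorem EF.ker_hx (h : EF t1 t2 ζ) {d : LK} (hd : d ∈ Mp t1 t2 ζ) {X : Fin 3} (hs : ∀ k, brK d (er (mt X 0 k)) = 0) :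
    ∃ x : Fin 4 → KK, d = hx x ∧ x 0 = 0 ∧ x 1 = 0 ∧ lam X 0 x = 0 := by
  have ht := h.scalar_TZ (h.Mp_VV hd) (X := X) (s := 0) fun k => by rw [hs k, zero_smul]
  obtain ⟨x, hx'⟩ := h.exists_hx ht
  obtain ⟨x0, x1⟩ := h.Z2_of (x := x) (by rw [← hx']; exact hd)
  refine ⟨x, hx', x0, x1, ?_⟩
  have e := hs 0
  rw [hx', (IX_er X 0 0).br] at e
  exact (smul_eq_zero.1 e).resolve_right (er_ne (mt_lt X 0 0))

/-- **the kernel on the modules of type `X`** : the element is a scalar on the modules of every type -/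
theorem EF.ker_X (h : EF t1 t2 ζ) {d : LK} (hd : d ∈ Mp t1 t2 ζ) {X : Fin 3} (hs : ∀ k, brK d (er (mt X 0 k)) = 0) (Y : Fin 3) :
    ∃ κ : KK, ∀ w v, IX Y w v → brK d v = κ • v := by
  obtain ⟨x, rfl, x0, x1, -⟩ := h.ker_hx hd hs
  exact ⟨lam Y 0 x, fun w v hv' => by rw [hv'.br, lam_Z2 Y w 0 x0 x1]⟩

theorem PT_tri : ∀ (X X' Y : Fin 3) (m : Fin 4), X ≠ X' → Y ≠ X → Y ≠ X' → 2 ≤ m →
    (PT X 0 m + PT X' 0 m + PT Y 0 m - 0) % 2 = 0 := by decide +kernel

theorem lam_tri {X X' Y : Fin 3} (h1 : X ≠ X') (h2 : Y ≠ X) (h3 : Y ≠ X') {x : Fin 4 → KK} (x0 : x 0 = 0) (x1 : x 1 = 0) :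
    lam X 0 x + lam X' 0 x + lam Y 0 x = 0 := by
  unfold lam
  rw [← Finset.sum_add_distrib, ← Finset.sum_add_distrib]
  refine Finset.sum_eq_zero fun m _ => ?_
  rw [← mul_add, ← mul_add, ← Int.cast_add, ← Int.cast_add]
  by_cases hm : 2 ≤ m
  · rw [cast_congr (PT_tri X X' Y m h1 h2 h3 hm), Int.cast_zero, mul_zero]
  · have : x m = 0 := by
      fin_cases m
      · exact x0
      · exact x1
      · exact absurd (by decide) hm
      · exact absurd (by decide) hm
    rw [this, zero_mul]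

theorem lam_zero (X : Fin 3) (w : Fin 8) : lam X w 0 = 0 := by
  unfold lam
  exact Finset.sum_eq_zero fun m _ => by rw [Pi.zero_apply, zero_mul]

/-- **two types** -/
theorem EF.ker_XX (h : EF t1 t2 ζ) {d : LK} (hd : d ∈ Mp t1 t2 ζ) {X X' : Fin 3} (hX : X ≠ X')
    (hs : ∀ k, brK d (er (mt X 0 k)) = 0) (hs' : ∀ k, brK d (er (mt X' 0 k)) = 0) : d = 0 := by
  obtain ⟨x, rfl, x0, x1, e⟩ := h.ker_hx hd hs
  have e' : lam X' 0 x = 0 := by
    have e := hs' 0
    rw [(IX_er X' 0 0).br] at e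
    exact (smul_eq_zero.1 e).resolve_right (er_ne (mt_lt X' 0 0))
  have hx0 : x = 0 := by
    refine lam_ext fun Y w => ?_
    rw [lam_Z2 Y w 0 x0 x1, lam_zero]
    by_cases h1 : Y = X
    · rw [h1, e]
    · by_cases h2 : Y = X'
      · rw [h2, e']
      · have e3 := lam_tri hX h1 h2 x0 x1
        rw [e, e', zero_add, zero_add] at e3
        exact e3
  rw [hx_eq x0 x1, congrFun hx0 2, congrFun hx0 3, Pi.zero_apply, Pi.zero_apply, zero_smul, zero_smul, add_zero]

end Cfsg.Agent.H942.DF
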